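import Mathlib

namespace Groth.Agent.CompLatLib

open Finset Matrix

variable {n : ℕ}

/-- sum of coordinates -/
abbrev sumL (n : ℕ) : (Fin n → ℤ) →ₗ[ℤ] ℤ := ∑ i : Fin n, LinearMap.proj i

lemma sumL_apply (x : Fin n → ℤ) : sumL n x = ∑ i, x i := by simp [sumL]

lemma sumL_diag (δ x : Fin n → ℤ) : sumL n (mulVecLin (diagonal δ) x) = ∑ i, δ i * x i := by
  simp [sumL_apply, mulVec_diagonal]

lemma diag_injective {δ : Fin n → ℤ} (hδ : ∀ i, δ i ≠ 0) : Function.Injective (mulVecLin (diagonal δ)) := by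
  intro x y h
  funext i
  have := congrFun h i
  simp only [mulVecLin_apply, mulVec_diagonal] at this
  exact mul_left_cancel₀ (hδ i) this

lemma index_range_diag {δ : Fin n → ℤ} (hδ : ∀ i, δ i ≠ 0) :
    (LinearMap.range (mulVecLin (diagonal δ))).toAddSubgroup.index = (∏ i, δ i).natAbs := by
  have h := Submodule.natAbs_det_equiv (LinearMap.range (mulVecLin (diagonal δ)))
    (LinearEquiv.ofInjective _ (diag_injective hδ))
  have h1 : LinearMap.det (mulVecLin (diagonal δ)) = ∏ i, δ i := by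
    rw [← Matrix.toLin'_apply', LinearMap.det_toLin', det_diagonal]
  rw [← h1]
  exact h.symm

lemma range_sum_diag (δ : Fin n → ℤ) :
    (LinearMap.range (sumL n ∘ₗ mulVecLin (diagonal δ))).toAddSubgroup = AddSubgroup.zmultiples (univ.gcd δ) := by
  ext z
  rw [Submodule.mem_toAddSubgroup, LinearMap.mem_range, AddSubgroup.mem_zmultiples_iff]
  constructor
  · rintro ⟨x, rfl⟩
    have : univ.gcd δ ∣ sumL n (mulVecLin (diagonal δ) x) := by
      rw [sumL_diag]
      exact Finset.dvd_sum fun i _ => Dvd.dvd.mul_right (Finset.gcd_dvd (mem_univ i)) _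
    obtain ⟨k, hk⟩ := this
    exact ⟨k, by rw [LinearMap.comp_apply, hk, smul_eq_mul, mul_comm]⟩
  · rintro ⟨k, rfl⟩
    obtain ⟨f, hf⟩ := Finset.gcd_eq_sum_mul univ δ
    refine ⟨k • f, ?_⟩
    rw [map_smul, LinearMap.comp_apply, sumL_diag, hf]

lemma sumL_surjective (hn : 0 < n) : Function.Surjective (sumL n) := fun z =>
  ⟨Pi.single ⟨0, hn⟩ z, by simp [sumL_apply]⟩

theorem main_gen {V : Type*} [AddCommGroup V] (D : V →+ V) (S : V →+ ℤ) (hD : Function.Injective D)
    (hS : Function.Surjective S) (d : ℤ) (hd : (S.comp D).range = AddSubgroup.zmultiples d)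
    (H : AddSubgroup V) (hH : H ≤ (S.comp D).ker) :
    (H.map D).relIndex S.ker * d.natAbs = H.relIndex (S.comp D).ker * D.range.index := by
  have hDK : (S.comp D).ker.map D = D.range ⊓ S.ker := by
    ext y
    constructor
    · rintro ⟨x, hx, rfl⟩; exact ⟨⟨x, rfl⟩, hx⟩
    · rintro ⟨⟨x, rfl⟩, hx⟩; exact ⟨x, hx, rfl⟩
  have hle : H.map D ≤ D.range ⊓ S.ker := hDK ▸ AddSubgroup.map_mono hH
  have h1 := AddSubgroup.relIndex_mul_relIndex _ _ _ hle (inf_le_right : D.range ⊓ S.ker ≤ S.ker)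
  have h2 : (H.map D).relIndex (D.range ⊓ S.ker) = H.relIndex (S.comp D).ker := by
    rw [← hDK]
    exact AddSubgroup.relIndex_map_map_of_injective (f := D) _ _ hD
  have h4 : D.range ⊔ S.ker = (D.range.map S).comap S := (AddSubgroup.comap_map_eq S D.range).symm
  have h5 : (D.range ⊔ S.ker).index = d.natAbs := by
    rw [h4, AddSubgroup.index_comap_of_surjective _ hS, ← Int.index_zmultiples, ← hd, AddMonoidHom.range_comp]
  have h6 : D.range.relIndex S.ker * d.natAbs = D.range.index := by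
    rw [← AddSubgroup.relIndex_sup_right (H := S.ker) (K := D.range), sup_comm, ← h5,
      AddSubgroup.relIndex_mul_index le_sup_left]
  rw [← h1, AddSubgroup.inf_relIndex_right, h2, mul_assoc, h6]

theorem image_gen {V : Type*} [AddCommGroup V] (f : V →+ V) (R : AddSubgroup V) (v : V) (d : ℤ)
    (hK : f.ker = AddSubgroup.zmultiples v) (hmem : ∀ k : ℤ, k • v ∈ R ↔ d ∣ k) :
    (R.map f).relIndex f.range * d.natAbs = R.index := by
  let g : ℤ →+ V := zmultiplesHom _ v
  have hg : g.range = AddSubgroup.zmultiples v := rfl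
  have hc : R.comap g = AddSubgroup.zmultiples d := by
    ext k
    exact (hmem k).trans Int.mem_zmultiples_iff.symm
  have h1 : R.relIndex f.ker = d.natAbs := by
    rw [hK, ← hg, ← AddSubgroup.index_comap, hc, Int.index_zmultiples]
  have h3 : (R.map f).relIndex f.range = (R ⊔ f.ker).index := by
    rw [← AddSubgroup.index_comap, AddSubgroup.comap_map_eq]
  have h4 : R.relIndex (f.ker ⊔ R) * (f.ker ⊔ R).index = R.index :=
    AddSubgroup.relIndex_mul_index le_sup_right
  rw [AddSubgroup.relIndex_sup_right, h1] at h4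
  rw [h3, sup_comm, mul_comm]
  exact h4

theorem main_lin {V : Type*} [AddCommGroup V] (D : V →ₗ[ℤ] V) (S : V →ₗ[ℤ] ℤ)
    (hD : Function.Injective D) (hS : Function.Surjective S) (d : ℤ)
    (hd : (LinearMap.range (S ∘ₗ D)).toAddSubgroup = AddSubgroup.zmultiples d) (N : ℕ)
    (hN : (LinearMap.range D).toAddSubgroup.index = N)
    (H : Submodule ℤ V) (hH : H ≤ LinearMap.ker (S ∘ₗ D)) :
    Nat.card (LinearMap.ker S ⧸ (H.map D).comap (LinearMap.ker S).subtype) * d.natAbs
      = Nat.card (LinearMap.ker (S ∘ₗ D) ⧸ H.comap (LinearMap.ker (S ∘ₗ D)).subtype) * N := by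
  subst hN
  exact main_gen D.toAddMonoidHom S.toAddMonoidHom hD hS d hd H.toAddSubgroup hH

variable (δ : Fin n → ℤ) (A : Matrix (Fin n) (Fin n) ℤ)

theorem main (hn : 0 < n) (hδ : ∀ i, δ i ≠ 0) (H : Submodule ℤ (Fin n → ℤ))
    (hH : H ≤ LinearMap.ker (sumL n ∘ₗ mulVecLin (diagonal δ))) :
    Nat.card (LinearMap.ker (sumL n) ⧸ (H.map (mulVecLin (diagonal δ))).comap (LinearMap.ker (sumL n)).subtype)
        * (univ.gcd δ).natAbs
      = Nat.card (LinearMap.ker (sumL n ∘ₗ mulVecLin (diagonal δ)) ⧸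
          H.comap (LinearMap.ker (sumL n ∘ₗ mulVecLin (diagonal δ))).subtype) * (∏ i, δ i).natAbs := by
  exact main_lin _ _ (diag_injective hδ) (sumL_surjective hn) _ (range_sum_diag δ) _ (index_range_diag hδ) H hH

lemma card_quot (P Q : Submodule ℤ (Fin n → ℤ)) :
    Nat.card (Q ⧸ P.comap Q.subtype) = P.toAddSubgroup.relIndex Q.toAddSubgroup := rfl

theorem image_index {δ' : Fin n → ℤ} (hn : 0 < n) (hδ' : ∀ i, δ' i ≠ 0) (hA : A.rank = n - 1)
    (hker : mulVecLin A δ' = 0) :
    ((LinearMap.range (mulVecLin (diagonal δ'))).map (mulVecLin A)).toAddSubgroup.relIndex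
        (LinearMap.range (mulVecLin A)).toAddSubgroup * (univ.gcd δ').natAbs
      = (∏ i, δ' i).natAbs := by
  let R := (LinearMap.range (mulVecLin (diagonal δ'))).toAddSubgroup
  let f := (mulVecLin A).toAddMonoidHom
  obtain ⟨v, hv, hvg⟩ := Finset.extract_gcd δ' (univ_nonempty_iff.mpr ⟨⟨0, hn⟩⟩)
  set d := univ.gcd δ'
  have hd : d ≠ 0 := fun h => hδ' ⟨0, hn⟩ (by rw [hv _ (mem_univ _), h, zero_mul])
  have hδv : δ' = d • v := funext fun i => by simpa using hv i (mem_univ i)
  have hvK : v ∈ LinearMap.ker (mulVecLin A) := by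
    rw [LinearMap.mem_ker]
    rw [hδv, map_smul] at hker
    exact (smul_eq_zero.mp hker).resolve_left hd
  let Kr := LinearMap.ker (mulVecLin A)
  have hfr : Module.finrank ℤ Kr = 1 := by
    have h := Submodule.finrank_quotient_add_finrank Kr
    rw [(mulVecLin A).quotKerEquivRange.finrank_eq, Module.finrank_fin_fun] at h
    have h' : Module.finrank ℤ (LinearMap.range (mulVecLin A)) = n - 1 := hA
    omega
  have hKr : ∀ x ∈ Kr, ∃ k : ℤ, k • v = x := by
    let b := Module.finBasisOfFinrankEq ℤ Kr hfr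
    have hgen : ∀ z : Kr, z = b.repr z 0 • b 0 := fun z => by
      conv_lhs => rw [← b.sum_repr z, Fin.sum_univ_one]
    obtain ⟨c, hc⟩ : ∃ c : ℤ, v = c • (b 0 : Fin n → ℤ) := ⟨_, congrArg Subtype.val (hgen ⟨v, hvK⟩)⟩
    have hcu : IsUnit c := isUnit_of_dvd_one (hvg ▸ Finset.dvd_gcd fun i _ => ⟨(b 0 : Fin n → ℤ) i, congrFun hc i⟩)
    intro x hx
    obtain ⟨u, rfl⟩ := hcu
    refine ⟨b.repr ⟨x, hx⟩ 0 * ((u⁻¹ : ℤˣ) : ℤ), ?_⟩
    rw [hc, smul_smul, mul_assoc, Units.inv_mul, mul_one]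
    exact (congrArg Subtype.val (hgen ⟨x, hx⟩)).symm
  have hK : f.ker = AddSubgroup.zmultiples v := by
    ext x
    exact ⟨fun hx => AddSubgroup.mem_zmultiples_iff.mpr (hKr x hx), fun hx => by
      obtain ⟨k, rfl⟩ := AddSubgroup.mem_zmultiples_iff.mp hx
      exact Kr.smul_mem k hvK⟩
  have hmem : ∀ k : ℤ, k • v ∈ R ↔ d ∣ k := fun k => by
    constructor
    · rintro ⟨x, hx⟩
      have hx' : ∀ i, x i * d * v i = k * v i := fun i => by
        have := congrFun hx i
        simp only [mulVecLin_apply, mulVec_diagonal, Pi.smul_apply, smul_eq_mul, hv i (mem_univ i)] at this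
        linear_combination this
      obtain ⟨g, hg⟩ := Finset.gcd_eq_sum_mul univ v
      rw [hvg] at hg
      refine ⟨∑ i, x i * (v i * g i), ?_⟩
      calc k = ∑ i, k * v i * g i := by
            conv_lhs => rw [← mul_one k, hg, Finset.mul_sum]
            exact Finset.sum_congr rfl fun i _ => by ring
        _ = _ := by
            rw [Finset.mul_sum]
            exact Finset.sum_congr rfl fun i _ => by rw [← hx' i]; ring
    · rintro ⟨c, rfl⟩
      refine ⟨fun _ => c, funext fun i => ?_⟩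
      simp [mulVec_diagonal, hv i (mem_univ i)]
      ring
  have h := image_gen f R v d hK hmem
  rw [← index_range_diag hδ']
  exact h

end Groth.Agent.CompLatLib
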